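import Cfsg.Agent.Lib.Helper44.FW.Defs

/-!
# Project FW (S3211): package [CNT]
Strictly more square roots of `j` than of `t₀` in `C(j) ∩ C(t₀)`.
-/

set_option autoImplicit false

namespace Cfsg.Agent.Lib.Helper20.FW

open Cfsg.Agent.Lib.Helper44.FW

universe u

lemma sq_of_mem_zpowers {G : Type u} [Group G] {j y : G} (hj : j ^ 2 = 1)
    (hy : y ∈ Subgroup.zpowers j) : y ^ 2 = 1 := by
  obtain ⟨k, rfl⟩ := Subgroup.mem_zpowers_iff.mp hy
  rw [← zpow_natCast, ← zpow_mul, mul_comm, zpow_mul, zpow_natCast, hj, one_zpow]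

theorem pkgCnt : PkgCnt.{u} := by
  classical
  intro G _ _ L₁ L₂ j n hC x₀ hx₀ hx₀2 hCY hPhi
  haveI : Fintype G := Fintype.ofFinite G
  obtain ⟨y₀, hy₀def⟩ : ∃ y₀, y₀ = n * x₀ * n⁻¹ := ⟨_, rfl⟩
  obtain ⟨t₀, ht₀def⟩ : ∃ t₀, t₀ = x₀ * y₀ := ⟨_, rfl⟩
  rw [← hy₀def, ← ht₀def] at hCY hPhi ⊢
  obtain ⟨a, b, hab⟩ := hCY
  -- basic facts
  have hj2 : j ^ 2 = 1 := by rw [← hC.ord]; exact pow_orderOf_eq_one j
  have hj1 : j ≠ 1 := by
    intro h
    have h1 := hC.ord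
    rw [h, orderOf_one] at h1
    omega
  have hcent : ∀ r : G, r ∈ Subgroup.centralizer ({j} : Set G) ↔ r * j = j * r := by
    intro r
    rw [Subgroup.mem_centralizer_iff]
    constructor
    · intro h; exact (h j rfl).symm
    · intro h y hy
      rw [Set.mem_singleton_iff] at hy
      rw [hy]; exact h.symm
  have hnj : n * j = j * n := (hcent n).mp hC.hn
  have hx₀Y : x₀ ∈ L₁ ⊔ L₂ := Subgroup.mem_sup_left hx₀
  have hx₀j : x₀ * j = j * x₀ := (hcent x₀).mp (hC.le hx₀Y)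
  have hy₀L₂ : y₀ ∈ L₂ := by
    rw [← hC.swap]
    exact ⟨x₀, hx₀, by rw [hy₀def]; rfl⟩
  have hy₀Y : y₀ ∈ L₁ ⊔ L₂ := Subgroup.mem_sup_right hy₀L₂
  have hy₀j : y₀ * j = j * y₀ := (hcent y₀).mp (hC.le hy₀Y)
  have hxy : x₀ * y₀ = y₀ * x₀ := hC.comm x₀ hx₀ y₀ hy₀L₂
  have hy₀2 : y₀ ^ 2 = j := by
    rw [hy₀def, conj_pow, hx₀2, hnj, mul_inv_cancel_right]
  have hx₀t : x₀ * t₀ = t₀ * x₀ := by rw [ht₀def, mul_assoc, ← hxy]
  have hy₀t : y₀ * t₀ = t₀ * y₀ := by rw [ht₀def, ← mul_assoc, ← hxy]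
  have hnn : n * n = j := by rw [← hC.hn2, sq]
  have h_nx : n * x₀ = y₀ * n := by rw [hy₀def]; group
  have h_ny : n * y₀ = x₀ * n := by
    rw [hy₀def]
    calc n * (n * x₀ * n⁻¹) = (n * n) * x₀ * n⁻¹ := by group
      _ = x₀ * (n * n) * n⁻¹ := by rw [hnn, hx₀j]
      _ = x₀ * n := by group
  have hnt : n * t₀ = t₀ * n := by
    calc n * t₀ = n * x₀ * y₀ := by rw [ht₀def, mul_assoc]
      _ = y₀ * (n * y₀) := by rw [h_nx, mul_assoc]
      _ = y₀ * x₀ * n := by rw [h_ny, mul_assoc]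
      _ = t₀ * n := by rw [ht₀def, hxy]
  -- elements of `L₁ ⊓ L₂` square to one
  have hmeet : ∀ z : G, z ∈ L₁ → z ∈ L₂ → z ^ 2 = 1 := by
    intro z h1 h2
    have h3 : z ∈ L₁ ⊓ L₂ := ⟨h1, h2⟩
    rw [hC.meet] at h3
    exact sq_of_mem_zpowers hj2 h3
  have hx₀L₂ : x₀ ∉ L₂ := by
    intro h
    have h1 := hmeet x₀ hx₀ h
    rw [hx₀2] at h1
    exact hj1 h1
  have hy₀L₁ : y₀ ∉ L₁ := by
    intro h
    have h1 := hmeet y₀ h hy₀L₂
    rw [hy₀2] at h1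
    exact hj1 h1
  -- `n ∉ L₁ ⊔ L₂`
  have hL₂norm : L₂ ≤ Subgroup.normalizer (L₁ : Set G) := by
    intro v hv
    rw [Subgroup.mem_normalizer_iff]
    intro h
    constructor
    · intro hh
      have h1 : v * h * v⁻¹ = h := by rw [← hC.comm h hh v hv, mul_inv_cancel_right]
      rw [h1]; exact hh
    · intro hh
      have hc := hC.comm (v * h * v⁻¹) hh v hv
      have h3 : h = v * h * v⁻¹ := by
        apply mul_left_cancel (a := v)
        rw [← hc]; group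
      rw [h3]; exact hh
  have hYnorm : L₁ ⊔ L₂ ≤ Subgroup.normalizer (L₁ : Set G) := sup_le Subgroup.le_normalizer hL₂norm
  have hnY : n ∉ L₁ ⊔ L₂ := by
    intro h
    have h1 := hYnorm h
    have h2 : n * x₀ * n⁻¹ ∈ L₁ := (Subgroup.mem_normalizer_iff.mp h1 x₀).mp hx₀
    rw [← hy₀def] at h2
    exact hy₀L₁ h2
  -- the finsets
  obtain ⟨St, hSt⟩ : ∃ St : Finset G, St =
      Finset.univ.filter (fun r : G => r * j = j * r ∧ r * t₀ = t₀ * r ∧ r ^ 2 = t₀) := ⟨_, rfl⟩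
  obtain ⟨Sj, hSj⟩ : ∃ Sj : Finset G, Sj =
      Finset.univ.filter (fun r : G => r * j = j * r ∧ r * t₀ = t₀ * r ∧ r ^ 2 = j) := ⟨_, rfl⟩
  have hcSt : Nat.card {r : G // r * j = j * r ∧ r * t₀ = t₀ * r ∧ r ^ 2 = t₀} = St.card := by
    rw [Nat.card_eq_fintype_card, Fintype.card_subtype, hSt]
  have hcSj : Nat.card {r : G // r * j = j * r ∧ r * t₀ = t₀ * r ∧ r ^ 2 = j} = Sj.card := by
    rw [Nat.card_eq_fintype_card, Fintype.card_subtype, hSj]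
  rw [hcSt, hcSj]
  have hmemSt : ∀ r : G, r ∈ St ↔ (r * j = j * r ∧ r * t₀ = t₀ * r ∧ r ^ 2 = t₀) := by
    intro r; rw [hSt]; simp
  have hmemSj : ∀ r : G, r ∈ Sj ↔ (r * j = j * r ∧ r * t₀ = t₀ * r ∧ r ^ 2 = j) := by
    intro r; rw [hSj]; simp
  -- split `St`
  obtain ⟨D, hD⟩ : ∃ D : Finset G, D = St.filter (fun r => r ∉ L₁ ⊔ L₂) := ⟨_, rfl⟩
  have hsplit : (St.filter (fun r => r ∈ L₁ ⊔ L₂)).card + D.card = St.card := by
    rw [hD]
    exact Finset.card_filter_add_card_filter_not (fun r => r ∈ L₁ ⊔ L₂)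
  have hfour : (St.filter (fun r => r ∈ L₁ ⊔ L₂)).card ≤ 4 := by
    have hsub : St.filter (fun r => r ∈ L₁ ⊔ L₂) ⊆ ({a, a * j, b, b * j} : Finset G) := by
      intro r hr
      rw [Finset.mem_filter, hmemSt] at hr
      have h1 := hab r hr.2 hr.1.2.2
      simp only [Finset.mem_insert, Finset.mem_singleton]
      exact h1
    exact (Finset.card_le_card hsub).trans Finset.card_le_four
  -- the two parts of `Sj`
  obtain ⟨A, hA⟩ : ∃ A : Finset G, A = {x₀, x₀⁻¹, y₀, y₀⁻¹} := ⟨_, rfl⟩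
  obtain ⟨B, hB⟩ : ∃ B : Finset G, B = insert n (D.image (fun r => r * x₀)) := ⟨_, rfl⟩
  have hjinv : j⁻¹ = j := by
    rw [inv_eq_iff_mul_eq_one, ← sq]; exact hj2
  have hmem_inv : ∀ z : G, z ∈ Sj → z⁻¹ ∈ Sj := by
    intro z hz
    rw [hmemSj] at hz ⊢
    obtain ⟨h1, h2, h3⟩ := hz
    refine ⟨?_, ?_, ?_⟩
    · rw [inv_mul_eq_iff_eq_mul, ← mul_assoc, h1, mul_inv_cancel_right]
    · rw [inv_mul_eq_iff_eq_mul, ← mul_assoc, h2, mul_inv_cancel_right]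
    · rw [inv_pow, h3, hjinv]
  have hx₀Sj : x₀ ∈ Sj := (hmemSj x₀).mpr ⟨hx₀j, hx₀t, hx₀2⟩
  have hy₀Sj : y₀ ∈ Sj := (hmemSj y₀).mpr ⟨hy₀j, hy₀t, hy₀2⟩
  have hASj : A ⊆ Sj := by
    intro z hz
    rw [hA] at hz
    simp only [Finset.mem_insert, Finset.mem_singleton] at hz
    rcases hz with rfl | rfl | rfl | rfl
    · exact hx₀Sj
    · exact hmem_inv _ hx₀Sj
    · exact hy₀Sj
    · exact hmem_inv _ hy₀Sj
  have hAY : ∀ z ∈ A, z ∈ L₁ ⊔ L₂ := by
    intro z hz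
    rw [hA] at hz
    simp only [Finset.mem_insert, Finset.mem_singleton] at hz
    rcases hz with rfl | rfl | rfl | rfl
    · exact hx₀Y
    · exact inv_mem hx₀Y
    · exact hy₀Y
    · exact inv_mem hy₀Y
  have hx₀ne : x₀ ≠ x₀⁻¹ := by
    intro h
    have h1 : x₀ ^ 2 = 1 := by
      rw [sq]; nth_rewrite 2 [h]; exact mul_inv_cancel x₀
    rw [hx₀2] at h1
    exact hj1 h1
  have hy₀ne : y₀ ≠ y₀⁻¹ := by
    intro h
    have h1 : y₀ ^ 2 = 1 := by
      rw [sq]; nth_rewrite 2 [h]; exact mul_inv_cancel y₀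
    rw [hy₀2] at h1
    exact hj1 h1
  have hcardA : A.card = 4 := by
    rw [hA, Finset.card_insert_of_notMem, Finset.card_insert_of_notMem, Finset.card_pair hy₀ne]
    · simp only [Finset.mem_insert, Finset.mem_singleton, not_or]
      refine ⟨?_, ?_⟩
      · intro h
        apply hx₀L₂
        have h2 : x₀ = y₀⁻¹ := by rw [← h, inv_inv]
        rw [h2]; exact inv_mem hy₀L₂
      · intro h
        apply hx₀L₂
        have h2 : x₀ = y₀ := inv_injective h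
        rw [h2]; exact hy₀L₂
    · simp only [Finset.mem_insert, Finset.mem_singleton, not_or]
      refine ⟨hx₀ne, ?_, ?_⟩
      · intro h; apply hx₀L₂; rw [h]; exact hy₀L₂
      · intro h; apply hx₀L₂; rw [h]; exact inv_mem hy₀L₂
  have hDmem : ∀ r : G, r ∈ D ↔ (r ∈ St ∧ r ∉ L₁ ⊔ L₂) := by
    intro r; rw [hD, Finset.mem_filter]
  have hDphi : ∀ r ∈ D, (r * x₀) ^ 2 = j ∧ r * x₀ ≠ n := by
    intro r hr
    rw [hDmem, hmemSt] at hr
    exact hPhi r ((hcent r).mpr hr.1.1) hr.2 hr.1.2.1 hr.1.2.2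
  have hBSj : B ⊆ Sj := by
    intro z hz
    rw [hB, Finset.mem_insert, Finset.mem_image] at hz
    rcases hz with rfl | ⟨r, hr, rfl⟩
    · exact (hmemSj _).mpr ⟨hnj, hnt, hC.hn2⟩
    · have h1 := hDphi r hr
      rw [hDmem, hmemSt] at hr
      refine (hmemSj _).mpr ⟨?_, ?_, h1.1⟩
      · rw [mul_assoc, hx₀j, ← mul_assoc, hr.1.1, mul_assoc]
      · rw [mul_assoc, hx₀t, ← mul_assoc, hr.1.2.1, mul_assoc]
  have hBY : ∀ z ∈ B, z ∉ L₁ ⊔ L₂ := by
    intro z hz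
    rw [hB, Finset.mem_insert, Finset.mem_image] at hz
    rcases hz with rfl | ⟨r, hr, rfl⟩
    · exact hnY
    · rw [hDmem] at hr
      intro h
      apply hr.2
      have h2 : r = r * x₀ * x₀⁻¹ := by group
      rw [h2]
      exact mul_mem h (inv_mem hx₀Y)
  have hcardB : B.card = D.card + 1 := by
    rw [hB, Finset.card_insert_of_notMem, Finset.card_image_of_injective _ (mul_left_injective x₀)]
    rw [Finset.mem_image]
    rintro ⟨r, hr, h⟩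
    exact (hDphi r hr).2 h
  have hdisj : Disjoint A B := by
    rw [Finset.disjoint_left]
    intro z hzA hzB
    exact hBY z hzB (hAY z hzA)
  have hle : (A ∪ B).card ≤ Sj.card := Finset.card_le_card (Finset.union_subset hASj hBSj)
  rw [Finset.card_union_of_disjoint hdisj, hcardA, hcardB] at hle
  omega

end Cfsg.Agent.Lib.Helper20.FW
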